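import Cfsg.Agent.Lib.Sporadic.RuOut.Out
import Cfsg.Agent.Lib.Sporadic.RuLink.Link

/-!
# The outer automorphism group of the lattice Rudvalis group
-/

set_option autoImplicit false

namespace CfsgLib.Sporadic.RuOut

open Cfsg

theorem card_out_congr {G H : Type*} [Group G] [Group H] (e : G ≃* H) :
    Nat.card (Cfsg.Out G) = Nat.card (Cfsg.Out H) := by
  refine Nat.card_congr (QuotientGroup.congr (Cfsg.Inn G) (Cfsg.Inn H) (MulAut.congr e) ?_).toEquiv
  ext ψ
  constructor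
  · rintro ⟨_, ⟨g, rfl⟩, rfl⟩
    exact ⟨e g, MulEquiv.ext fun x => by simp [MulAut.congr]⟩
  · rintro ⟨h, rfl⟩
    exact ⟨MulAut.conj (e.symm h), ⟨_, rfl⟩, MulEquiv.ext fun x => by simp [MulAut.congr]⟩

theorem card_out_Ru : Nat.card (Cfsg.Out Spor.Ru) = 1 := by
  have h := @card_out_congr Spor.Ru RuMod.RG _ _ RuLink.ruEquiv
  exact h.trans card_out_RG

end CfsgLib.Sporadic.RuOut
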