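import Cfsg.Agent.Lib.Sporadic.RuGroup
import Cfsg.Agent.Lib.Sporadic.RuOut.FormData

/-!
# The 4060 points and the invariant form of the Rudvalis group in `GL(28,2)`

Sets of points are bit masks; the form turns a vector into the set of points with product one.
-/

set_option autoImplicit false
set_option maxRecDepth 100000
set_option maxHeartbeats 1000000

namespace CfsgLib.Sporadic.RuOut

open RuMod Finset
open CfsgLib.Sporadic
open Matrix (of)

/-- The code of a point. -/
noncomputable def pimg (i : ℕ) : ℕ := g0.img i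

/-- The vector of a point. -/
noncomputable def pvec (i : ℕ) : Mat := dec (pimg i)

/-- The form. -/
noncomputable def BQ (V W : Mat) : ZMod 2 := (V.transpose * dec FormData.gram * W) 0 0

/-- The points with a given coordinate one. -/
noncomputable def cmask (k : ℕ) : ℕ := FormData.coord.getD k 0

noncomputable def fullMask : ℕ := Nat.sub (Nat.shiftLeft 1 4060) 1

/-- The combination of coordinate sets selected by bits `o, o + s, o + 2 * s, …`. -/
noncomputable def selMask (M o s : ℕ) : ℕ :=
  Nat.rec 0 (fun k acc => cond (Nat.beq (Nat.land (Nat.shiftRight M (Nat.add o (Nat.mul s k))) 1) 1)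
    (Nat.xor acc (cmask k)) acc) 28

/-- The points with product one with a vector. -/
noncomputable def bmask (v : ℕ) : ℕ := selMask (mm FormData.gram v) 0 28

/-- The points whose product with their image under `M` is one. -/
noncomputable def autoMask (M : ℕ) : ℕ :=
  Nat.rec 0 (fun k acc => Nat.xor acc (Nat.land (cmask k) (selMask (mm FormData.gram M) (Nat.mul 28 k) 1))) 28

theorem bz_test (g i : ℕ) : Nat.beq (Nat.land (Nat.shiftRight g i) 1) 1 = g.testBit i := by
  show Nat.beq ((g >>> i) &&& 1) 1 = _
  rw [Nat.and_one_is_mod, Nat.testBit_eq_decide_div_mod_eq, Nat.shiftRight_eq_div_pow]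
  rcases Nat.mod_two_eq_zero_or_one (g / 2 ^ i) with h | h <;> rw [h] <;> rfl

theorem dec_apply (M : ℕ) (a b : Fin 28) : dec M a b = bz (M.testBit (28 * a.val + b.val)) := rfl

theorem coord_bit {i : ℕ} (hi : i < 4060) (k : Fin 28) : bz ((cmask k).testBit i) = pvec i k 0 := by
  have h := forallLt_elim (forallLt_elim coord_ok hi) k.isLt
  simp only [FormData.coordTest, Bool.and_eq_true, beq_iff_eq] at h
  rw [bz_test, bz_test] at h
  show bz _ = bz ((pimg i).testBit (28 * k.val + (0 : Fin 28).val))
  rw [cmask, h]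
  rfl

theorem testBit_selMask {i : ℕ} (hi : i < 4060) (M o s : ℕ) :
    bz ((selMask M o s).testBit i) = ∑ k : Fin 28, bz (M.testBit (o + s * k.val)) * pvec i k 0 := by
  have h : ∀ n, (hn : n ≤ 28) → bz ((Nat.rec 0 (fun k acc => cond (Nat.beq (Nat.land (Nat.shiftRight M (Nat.add o (Nat.mul s k))) 1) 1)
      (Nat.xor acc (cmask k)) acc) n : ℕ).testBit i) =
      ∑ k : Fin n, bz (M.testBit (o + s * k.val)) * pvec i (Fin.castLE hn k) 0 := by
    intro n hn
    induction n with
    | zero => simp [bz]
    | succ n ih =>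
      rw [Fin.sum_univ_castSucc]
      simp only [bz_test] at ih ⊢
      show bz ((cond (M.testBit (o + s * n)) (_ ^^^ cmask n) _ : ℕ).testBit i) = _
      have e : pvec i (Fin.castLE hn (Fin.last n)) 0 = bz ((cmask n).testBit i) :=
        (coord_bit hi ⟨n, by omega⟩).symm
      rw [e]
      rw [show (∑ k : Fin n, bz (M.testBit (o + s * (Fin.castSucc k).val)) * pvec i (Fin.castLE hn k.castSucc) 0) =
        ∑ k : Fin n, bz (M.testBit (o + s * k.val)) * pvec i (Fin.castLE (by omega : n ≤ 28) k) 0 from rfl,
        ← ih (by omega)]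
      show bz ((cond (M.testBit (o + s * n)) (_ ^^^ cmask n) _ : ℕ).testBit i) =
        _ + bz (M.testBit (o + s * n)) * _
      cases M.testBit (o + s * n)
      · simp [bz]
      · simp only [cond_true, Nat.testBit_xor, bz_xor]
        rw [show bz true = 1 from rfl, one_mul]
  exact h 28 le_rfl

attribute [local irreducible] mm pimg dec cmask in
theorem testBit_bmask {i : ℕ} (hi : i < 4060) (v : ℕ) : bz ((bmask v).testBit i) = BQ (pvec i) (dec v) := by
  rw [bmask, testBit_selMask hi, BQ, Matrix.mul_assoc, ← dec_mm, Matrix.mul_apply]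
  refine sum_congr rfl fun k _ => ?_
  rw [Matrix.transpose_apply, dec_apply, Nat.zero_add, mul_comm, Fin.val_zero, Nat.add_zero]

attribute [local irreducible] mm pimg dec cmask in
theorem testBit_autoMask {i : ℕ} (hi : i < 4060) (M : ℕ) :
    bz ((autoMask M).testBit i) = BQ (pvec i) (dec M * pvec i) := by
  have h : ∀ n, (hn : n ≤ 28) → bz ((Nat.rec 0 (fun k acc => Nat.xor acc
      (Nat.land (cmask k) (selMask (mm FormData.gram M) (Nat.mul 28 k) 1))) n : ℕ).testBit i) =
      ∑ k : Fin n, pvec i (Fin.castLE hn k) 0 *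
        ((dec FormData.gram * dec M) * pvec i) (Fin.castLE hn k) 0 := by
    intro n hn
    induction n with
    | zero => simp [bz]
    | succ n ih =>
      rw [Fin.sum_univ_castSucc]
      show bz (Nat.testBit (_ ^^^ (cmask n &&& selMask (mm FormData.gram M) (28 * n) 1)) i) = _
      rw [Nat.testBit_xor, bz_xor, Nat.testBit_and, bz_and, ih (by omega), testBit_selMask hi,
        show bz ((cmask n).testBit i) = pvec i (Fin.castLE hn (Fin.last n)) 0 from coord_bit hi ⟨n, by omega⟩]
      refine congrArg₂ (· + ·) rfl (congrArg₂ (· * ·) rfl ?_)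
      rw [← dec_mm, Matrix.mul_apply]
      refine sum_congr rfl fun k _ => ?_
      rw [Nat.one_mul, dec_apply]
      rfl
  rw [autoMask, h 28 le_rfl, BQ, Matrix.mul_assoc ((pvec i).transpose), Matrix.mul_apply,
    ← Matrix.mul_assoc (dec FormData.gram)]
  refine sum_congr rfl fun k _ => ?_
  rw [Matrix.transpose_apply]
  rfl

theorem gram_invariant {c : G28} (hc : c ∈ RG) :
    (c : Mat).transpose * dec FormData.gram * (c : Mat) = dec FormData.gram := by
  induction hc using Subgroup.closure_induction with
  | mem g hg =>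
    obtain ⟨k, hk, eg⟩ := hg
    rw [RuMod.nextGens_g] at hk eg
    have h := gram_ok k hk
    rw [eg, h.1, ← dec_mm, ← dec_mm, h.2]
  | one => simp
  | mul a b _ _ ha hb =>
    rw [Units.val_mul, Matrix.transpose_mul]
    calc _ = (b : Mat).transpose * ((a : Mat).transpose * dec FormData.gram * (a : Mat)) * (b : Mat) := by
          simp only [Matrix.mul_assoc]
      _ = _ := by rw [ha, hb]
  | inv a _ ha =>
    have e : (a : Mat) * (a⁻¹ : G28).1 = 1 := a.mul_inv
    calc ((a⁻¹ : G28) : Mat).transpose * dec FormData.gram * ((a⁻¹ : G28) : Mat)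
        = ((a⁻¹ : G28) : Mat).transpose * ((a : Mat).transpose * dec FormData.gram * (a : Mat)) *
            ((a⁻¹ : G28) : Mat) := by rw [ha]
      _ = ((a : Mat) * (a⁻¹ : G28).1).transpose * dec FormData.gram * ((a : Mat) * (a⁻¹ : G28).1) := by
          rw [Matrix.transpose_mul]; simp only [Matrix.mul_assoc]
      _ = _ := by rw [e]; simp

theorem BQ_invariant {c : G28} (hc : c ∈ RG) (V W : Mat) : BQ ((c : Mat) * V) ((c : Mat) * W) = BQ V W := by
  refine congrFun (congrFun ?_ 0) 0
  rw [Matrix.transpose_mul]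
  calc V.transpose * (c : Mat).transpose * dec FormData.gram * ((c : Mat) * W)
      = V.transpose * ((c : Mat).transpose * dec FormData.gram * (c : Mat)) * W := by
        simp only [Matrix.mul_assoc]
    _ = _ := by rw [gram_invariant hc]

theorem fix_base {t : G28} (ht : t ∈ genGroup Data.g1Gen) : (t : Mat) * dec g0.base = dec g0.base := by
  induction ht using Subgroup.closure_induction with
  | mem g hg =>
    obtain ⟨k, hk, eg⟩ := hg
    rw [eg, ← dec_mm, gens_fix k hk]
  | one => rw [Units.val_one, one_mul]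
  | mul a b _ _ iha ihb => rw [Units.val_mul, mul_assoc, ihb, iha]
  | inv a _ iha =>
    conv_lhs => rw [← iha]
    rw [Units.inv_mul_cancel_left]

attribute [local irreducible] mm Level.R Level.img dec in
/-- The group maps points to points. -/
theorem point_image {c : G28} (hc : c ∈ RG) {i : ℕ} (hi : i < 4060) :
    ∃ j < 4060, (c : Mat) * pvec i = pvec j := by
  obtain ⟨hmem, -, hrep⟩ := chain_spec gChain gChain_ok
  obtain ⟨hmem1, -, hrep1⟩ := chain_spec [g1, g2, g3, g4] gChain_ok.2
  obtain ⟨r, hr⟩ := hrep g0 List.mem_cons_self i hi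
  have hrG : r ∈ RG := (hmem r).2 ⟨i, hi, 1, (hmem1 1).1 (one_mem _), by rw [hr, Units.val_one, mul_one]⟩
  obtain ⟨j, hj, t, ht, e⟩ := (hmem (c * r)).1 (mul_mem hc hrG)
  refine ⟨j, hj, ?_⟩
  have ht1 : t ∈ genGroup Data.g1Gen := (hmem1 t).2 ht
  show (c : Mat) * dec (g0.img i) = dec (g0.img j)
  rw [img_eq, img_eq, ← mul_assoc, ← hr, ← Units.val_mul, e, mul_assoc, fix_base ht1]

/-- A pattern: the points with prescribed products with the targets, as for `w` with the sources. -/
noncomputable def profMask (w : ℕ) : List (ℕ × ℕ) → ℕ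
  | [] => fullMask
  | st :: l => Nat.land (cond (Nat.beq (Nat.land (Nat.shiftRight (bmask st.1) w) 1) 1) (bmask st.2)
      (Nat.xor (bmask st.2) fullMask)) (profMask w l)

theorem profMask_bit {c : G28} (hc : c ∈ RG) {w i : ℕ} (hw : w < 4060) (hi : i < 4060)
    (hwi : (c : Mat) * pvec w = pvec i) : ∀ (l : List (ℕ × ℕ)),
      (∀ st ∈ l, (c : Mat) * dec st.1 = dec st.2) → (profMask w l).testBit i = true
  | [], _ => by
    show (1 <<< 4060 - 1).testBit i = true
    rw [Nat.shiftLeft_eq, one_mul, Nat.testBit_two_pow_sub_one]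
    exact decide_eq_true hi
  | st :: l, h => by
    show (cond (Nat.beq (Nat.land (Nat.shiftRight (bmask st.1) w) 1) 1) (bmask st.2)
      (bmask st.2 ^^^ fullMask) &&& profMask w l).testBit i = true
    rw [Nat.testBit_and, profMask_bit hc hw hi hwi l fun s hs => h s (List.mem_cons_of_mem _ hs), Bool.and_true,
      bz_test]
    have e : bz ((bmask st.2).testBit i) = bz ((bmask st.1).testBit w) := by
      rw [testBit_bmask hi, testBit_bmask hw, ← hwi, ← h st List.mem_cons_self, BQ_invariant hc]
    have hf : fullMask.testBit i = true := by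
      show (1 <<< 4060 - 1).testBit i = true
      rw [Nat.shiftLeft_eq, one_mul, Nat.testBit_two_pow_sub_one]
      exact decide_eq_true hi
    cases hb : (bmask st.1).testBit w
    · simp [Nat.testBit_xor, bz_inj (e.trans (congrArg bz hb)), hf]
    · simp [bz_inj (e.trans (congrArg bz hb))]

end CfsgLib.Sporadic.RuOut
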