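import Cfsg.Agent.Lib.Sporadic.RuOut.CentDefs

/-!
# Four elements of the group
-/

set_option autoImplicit false
set_option maxRecDepth 100000
set_option Elab.async false

namespace CfsgLib.Sporadic.RuOut

open RuMod
open CfsgLib.Sporadic
open CfsgLib.Sporadic.RuLink (bit0)

theorem cycles_ok : (forallLt 29 (fun i => Nat.beq (mm (pwX 1) (pwX i)) (pwX (Nat.mod (Nat.add i 1) 29))) &&
    forallLt 14 (fun i => Nat.beq (mm (pwU 1) (pwU i)) (pwU (Nat.mod (Nat.add i 1) 14))) &&
    forallLt 7 (fun i => Nat.beq (mm (pwT 1) (pwT i)) (pwT (Nat.mod (Nat.add i 1) 7)))) = true := by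
  decide +kernel

theorem zero_ok : pwX 0 = one ∧ pwU 0 = one ∧ pwT 0 = one ∧ pwT 1 = pwU 2 ∧
    pwX 1 = Data.g0Gen.getD 0 0 := by
  decide +kernel

theorem w_ok : mm CentData.wMat CentData.wMat = one ∧ mm CentData.wMat (pwU 1) = mm (pwU 1) CentData.wMat ∧
    mm (pwU 1) (pwX 1) = mm (pwX 4) (pwU 1) ∧
    (fieldsOK gChain CentData.siftU = true ∧ prodFrom gChain CentData.siftU = pwU 1) ∧
    (fieldsOK gChain CentData.siftW = true ∧ prodFrom gChain CentData.siftW = CentData.wMat) := by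
  decide +kernel

theorem dec_pow_of_cycle {pw : ℕ → ℕ} {n : ℕ} (h0 : pw 0 = one)
    (h : ∀ i < n, mm (pw 1) (pw i) = pw ((i + 1) % n)) (hn : 1 < n) :
    dec (pw 1) ^ n = 1 ∧ ∀ i < n, dec (pw i) = dec (pw 1) ^ i := by
  have e : ∀ i < n, dec (pw i) = dec (pw 1) ^ i := by
    intro i hi
    induction i with
    | zero => rw [h0, pow_zero, dec_one]
    | succ i ih =>
      rw [pow_succ', ← ih (by omega), ← dec_mm, h i (by omega), Nat.mod_eq_of_lt hi]
  refine ⟨?_, e⟩
  obtain ⟨m, rfl⟩ : ∃ m, n = m + 1 := ⟨n - 1, by omega⟩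
  rw [pow_succ', ← e m (by omega), ← dec_mm, h m (by omega), Nat.mod_self, h0, dec_one]

theorem pows_X : dec (pwX 1) ^ 29 = 1 ∧ ∀ i < 29, dec (pwX i) = dec (pwX 1) ^ i := by
  refine dec_pow_of_cycle zero_ok.1 (fun i hi => ?_) (by norm_num)
  have h := cycles_ok
  rw [Bool.and_eq_true, Bool.and_eq_true] at h
  exact Nat.eq_of_beq_eq_true (forallLt_elim h.1.1 hi)

theorem pows_U : dec (pwU 1) ^ 14 = 1 ∧ ∀ i < 14, dec (pwU i) = dec (pwU 1) ^ i := by
  refine dec_pow_of_cycle zero_ok.2.1 (fun i hi => ?_) (by norm_num)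
  have h := cycles_ok
  rw [Bool.and_eq_true, Bool.and_eq_true] at h
  exact Nat.eq_of_beq_eq_true (forallLt_elim h.1.2 hi)

theorem pows_T : dec (pwT 1) ^ 7 = 1 ∧ ∀ i < 7, dec (pwT i) = dec (pwT 1) ^ i := by
  refine dec_pow_of_cycle zero_ok.2.2.1 (fun i hi => ?_) (by norm_num)
  have h := cycles_ok
  rw [Bool.and_eq_true, Bool.and_eq_true] at h
  exact Nat.eq_of_beq_eq_true (forallLt_elim h.2 hi)

/-- An element of order dividing `29`. -/
noncomputable def gX : G28 := Units.ofPowEqOne (dec (pwX 1)) 29 pows_X.1 (by norm_num)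

/-- An element of order dividing `14` normalising it. -/
noncomputable def gU : G28 := Units.ofPowEqOne (dec (pwU 1)) 14 pows_U.1 (by norm_num)

theorem dec_wMat_sq : dec CentData.wMat ^ 2 = 1 := by rw [sq, ← dec_mm, w_ok.1, dec_one]

/-- An involution centralising the square of the second one. -/
noncomputable def gW : G28 := Units.ofPowEqOne (dec CentData.wMat) 2 dec_wMat_sq (by norm_num)

theorem val_gX : (gX : Mat) = dec (pwX 1) := rfl

theorem val_gU : (gU : Mat) = dec (pwU 1) := rfl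

theorem val_gW : (gW : Mat) = dec CentData.wMat := rfl

attribute [local irreducible] mm Level.R Level.img dec in
theorem sift_mem {g : G28} {e : ℕ} (hf : fieldsOK gChain e = true) (hg : (g : Mat) = dec (prodFrom gChain e)) :
    g ∈ RG := by
  obtain ⟨hmem, -, hrep⟩ := chain_spec gChain gChain_ok
  exact (hmem g).2 (prodFrom_mem gChain e hf hg hrep)

theorem gX_mem : gX ∈ RG :=
  Subgroup.subset_closure ⟨0, by rw [nextGens_g]; simp [Data.g0Gen], by
    rw [nextGens_g, val_gX, zero_ok.2.2.2.2]⟩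

theorem gU_mem : gU ∈ RG := sift_mem w_ok.2.2.2.1.1 (by rw [w_ok.2.2.2.1.2, val_gU])

theorem gW_mem : gW ∈ RG := sift_mem w_ok.2.2.2.2.1 (by rw [w_ok.2.2.2.2.2, val_gW])

theorem gX_pow : gX ^ 29 = 1 := Units.ext (by rw [Units.val_pow_eq_pow_val, val_gX, pows_X.1, Units.val_one])

theorem gU_pow : gU ^ 14 = 1 := Units.ext (by rw [Units.val_pow_eq_pow_val, val_gU, pows_U.1, Units.val_one])

theorem gU_conj : gU * gX = gX ^ 4 * gU := Units.ext (by
  rw [Units.val_mul, Units.val_mul, Units.val_pow_eq_pow_val, val_gU, val_gX, ← pows_X.2 4 (by norm_num),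
    ← dec_mm, ← dec_mm, w_ok.2.2.1])

theorem gW_comm : gW * gU = gU * gW := Units.ext (by
  rw [Units.val_mul, Units.val_mul, val_gU, val_gW, ← dec_mm, ← dec_mm, w_ok.2.1])

end CfsgLib.Sporadic.RuOut
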