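import Cfsg.Agent.Lib.Sporadic.RuOut.CentChecks
import Cfsg.Agent.Lib.Sporadic.RuOut.Elements

/-!
# The centralisers of an element of order 29 and of one of order 7
-/

set_option autoImplicit false
set_option maxRecDepth 100000
set_option maxHeartbeats 400000

namespace CfsgLib.Sporadic.RuOut

open RuMod Finset
open CfsgLib.Sporadic
open CfsgLib.Sporadic.RuLink (listMask bit0 mem_of_testBit_listMask bit0_eq)

attribute [local irreducible] mm pimg dec cmask bmask autoMask profMask

theorem comm_pow {c : G28} {b : Mat} (h : (c : Mat) * b = b * (c : Mat)) (n : ℕ) :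
    (c : Mat) * b ^ n = b ^ n * (c : Mat) := by
  induction n with
  | zero => rw [pow_zero, Matrix.mul_one, Matrix.one_mul]
  | succ n ih => rw [pow_succ, ← Matrix.mul_assoc, ih, Matrix.mul_assoc, h, ← Matrix.mul_assoc]

theorem comm_inv_mul {g c t : G28} (hg : g * t = t * g) (hc : c * t = t * c) :
    g⁻¹ * c * t = t * (g⁻¹ * c) := by
  have h1 : g⁻¹ * t = t * g⁻¹ := by
    rw [inv_mul_eq_iff_eq_mul, ← mul_assoc, hg, mul_assoc, mul_inv_cancel, mul_one]
  rw [mul_assoc, hc, ← mul_assoc, ← mul_assoc, h1]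

theorem eq_of_inv_mul {a b : G28} (h : a⁻¹ * b = 1) : a = b := by
  rw [inv_mul_eq_one] at h
  exact h

theorem pow_self_comm (g : G28) (n : ℕ) : g ^ n * g = g * g ^ n := by
  rw [← pow_succ, ← pow_succ']

theorem pow_comm_two (g : G28) (n : ℕ) : g ^ n * g ^ 2 = g ^ 2 * g ^ n := by
  rw [← pow_add, ← pow_add, add_comm]

theorem pow_comm_sq {g w : G28} (hw : w * g = g * w) (n : ℕ) :
    g ^ n * g ^ 2 = g ^ 2 * g ^ n ∧ g ^ n * w * g ^ 2 = g ^ 2 * (g ^ n * w) := by
  refine ⟨pow_comm_two g n, ?_⟩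
  have h2 : w * g ^ 2 = g ^ 2 * w := by rw [sq, ← mul_assoc, hw, mul_assoc, hw, ← mul_assoc]
  rw [mul_assoc, h2, ← mul_assoc, ← mul_assoc, pow_comm_two]

/-- An element commuting with a matrix carries orbit pairs along. -/
theorem orbPairs_map {c : G28} {pw : ℕ → ℕ} {p q : ℕ} (hpq : (c : Mat) * pvec p = pvec q) : ∀ n,
    (∀ j < n, (c : Mat) * dec (pw j) = dec (pw j) * (c : Mat)) →
      ∀ st ∈ orbPairs pw p q n, (c : Mat) * dec st.1 = dec st.2
  | 0, _, st, h => by simp [orbPairs] at h
  | n + 1, hc, st, h => by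
    have h' : st ∈ (mm (pw n) (pimg p), mm (pw n) (pimg q)) :: orbPairs pw p q n := h
    rcases List.mem_cons.1 h' with rfl | h'
    · show (c : Mat) * dec (mm (pw n) (pimg p)) = dec (mm (pw n) (pimg q))
      rw [dec_mm, dec_mm, ← mul_assoc, hc n (Nat.lt_succ_self n), mul_assoc]
      exact congrArg _ hpq
    · exact orbPairs_map hpq n (fun j hj => hc j (Nat.lt_succ_of_lt hj)) st h'

theorem full_bit {i : ℕ} (hi : i < 4060) : fullMask.testBit i = true := by
  show (1 <<< 4060 - 1).testBit i = true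
  rw [Nat.shiftLeft_eq, one_mul, Nat.testBit_two_pow_sub_one]
  exact decide_eq_true hi

/-- The image of `p` has the self-products of `p`. -/
theorem selfMask_bit {c : G28} (hc : c ∈ RG) {pw : ℕ → ℕ} {p a : ℕ} (hp : p < 4060) (ha : a < 4060)
    (hpa : (c : Mat) * pvec p = pvec a) : ∀ n,
    (∀ j ≤ n, (c : Mat) * dec (pw j) = dec (pw j) * (c : Mat)) → (selfMask pw p n).testBit a = true
  | 0, _ => full_bit ha
  | n + 1, hcomm => by
    show (selfMask pw p n &&& cond (bit0 (autoMask (pw (n + 1))) p) (autoMask (pw (n + 1)))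
      (autoMask (pw (n + 1)) ^^^ fullMask)).testBit a = true
    rw [Nat.testBit_and, selfMask_bit hc hp ha hpa n fun j hj => hcomm j (Nat.le_succ_of_le hj), Bool.true_and,
      bit0_eq]
    have e : bz ((autoMask (pw (n + 1))).testBit a) = bz ((autoMask (pw (n + 1))).testBit p) := by
      rw [testBit_autoMask ha, testBit_autoMask hp, ← hpa, ← mul_assoc, ← hcomm (n + 1) le_rfl, mul_assoc,
        BQ_invariant hc]
    cases hb : (autoMask (pw (n + 1))).testBit p
    · simp [Nat.testBit_xor, bz_inj (e.trans (congrArg bz hb)), full_bit ha]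
    · simp [bz_inj (e.trans (congrArg bz hb))]

/-- An element fixing the spanning points is trivial. -/
theorem span_one {d : G28} (hd : d ∈ RG) {S : List ℕ} {V Vi : ℕ} {src : List (ℕ × ℕ)}
    (h : spanOK S V src = true) (hVi : Nat.beq (mm V Vi) one = true)
    (hfix : ∀ st ∈ src, (d : Mat) * dec st.1 = dec st.2) : d = 1 := by
  have hV : dec V * dec Vi = 1 := by rw [← dec_mm, Nat.eq_of_beq_eq_true hVi, dec_one]
  have hcol : ∀ k r : Fin 28, dec V r k = pvec (S.getD k 0) r 0 ∧
      ((d : Mat) * pvec (S.getD k 0)) r 0 = pvec (S.getD k 0) r 0 := by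
    intro k r
    have hk := forallLt_elim h k.isLt
    rw [Bool.and_eq_true, Bool.and_eq_true] at hk
    obtain ⟨⟨hlt, hprof⟩, hbits⟩ := hk
    constructor
    · have hb := Nat.eq_of_beq_eq_true (forallLt_elim hbits r.isLt)
      show dec V r k = dec (pimg (S.getD k 0)) r 0
      rw [dec_apply, dec_apply, Fin.val_zero, Nat.add_zero]
      congr 1
      rw [← bz_test, ← bz_test]
      exact congrArg (fun x => Nat.beq x 1) hb
    · have hlt' : S.getD k 0 < 4060 := Nat.le_of_ble_eq_true hlt
      obtain ⟨j, hj, hij⟩ := point_image hd hlt'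
      have hb := profMask_bit hd hlt' hj hij src hfix
      rw [Nat.eq_of_beq_eq_true hprof, show Nat.shiftLeft 1 (S.getD k 0) = 1 <<< S.getD k 0 from rfl,
        Nat.shiftLeft_eq, one_mul, Nat.testBit_two_pow, decide_eq_true_eq] at hb
      rw [hij, hb]
  have hdV : (d : Mat) * dec V = dec V := by
    ext r k
    rw [(hcol k r).1, ← (hcol k r).2, Matrix.mul_apply, Matrix.mul_apply]
    exact sum_congr rfl fun l _ => by rw [(hcol k l).1]
  apply Units.ext
  rw [Units.val_one, ← hV, ← mul_one (d : Mat), ← hV, ← mul_assoc, hdV]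

theorem comm_powers {c : G28} {pw : ℕ → ℕ} {n : ℕ} (hpw : ∀ i < n, dec (pw i) = dec (pw 1) ^ i)
    (hc : (c : Mat) * dec (pw 1) = dec (pw 1) * (c : Mat)) :
    ∀ j < n, (c : Mat) * dec (pw j) = dec (pw j) * (c : Mat) := fun j hj => by
  rw [hpw j hj]
  exact comm_pow hc j

/-- The centraliser of `gX` consists of its powers. -/
theorem centralizer_gX {c : G28} (hc : c ∈ RG) (hX : c * gX = gX * c) : ∃ i < 29, c = gX ^ i := by
  have hval : ∀ {c : G28}, c * gX = gX * c → (c : Mat) * dec (pwX 1) = dec (pwX 1) * (c : Mat) := fun h => by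
    rw [← val_gX, ← Units.val_mul, h, Units.val_mul]
  have hcomm := comm_powers pows_X.2 (hval hX)
  obtain ⟨a, ha, hpa⟩ := point_image hc zero_lt.1
  have hbit := selfMask_bit hc zero_lt.1 ha hpa 14 fun j hj => hcomm j (by omega)
  rw [Nat.eq_of_beq_eq_true head_X] at hbit
  obtain ⟨⟨a', w, i⟩, he, rfl⟩ := List.mem_map.1 (mem_of_testBit_listMask hbit)
  have hok := List.all_eq_true.1 ents_X _ he
  rw [entOKX] at hok
  simp only at hok ha hpa
  rcases hw : Nat.beq w 4060 with _ | _ <;> rw [hw] at hok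
  · exfalso
    rw [cond_false, Bool.and_eq_true] at hok
    obtain ⟨j, hj, hij⟩ := point_image hc (Nat.le_of_ble_eq_true hok.1)
    have := profMask_bit hc (Nat.le_of_ble_eq_true hok.1) hj hij _
      (orbPairs_map hpa 29 fun j hj => hcomm j hj)
    rw [Nat.eq_of_beq_eq_true hok.2, Nat.zero_testBit] at this
    exact Bool.false_ne_true this
  · rw [cond_true, Bool.and_eq_true] at hok
    have hi : i < 29 := Nat.le_of_ble_eq_true hok.1
    refine ⟨i, hi, ?_⟩
    have hel : ((gX ^ i : G28) : Mat) * pvec CentData.zeroX = pvec a' := by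
      rw [Units.val_pow_eq_pow_val, val_gX, ← pows_X.2 i hi]
      show dec (pwX i) * dec (pimg CentData.zeroX) = dec (pimg a')
      rw [← dec_mm, Nat.eq_of_beq_eq_true hok.2]
    set d := (gX ^ i)⁻¹ * c with hd
    have hdfix : (d : Mat) * pvec CentData.zeroX = pvec CentData.zeroX := by
      rw [hd, Units.val_mul, mul_assoc, hpa, ← hel, Units.inv_mul_cancel_left]
    have hdX : d * gX = gX * d := comm_inv_mul (pow_self_comm gX i) hX
    have := span_one (mul_mem (inv_mem (pow_mem gX_mem i)) hc) span_X inv_X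
      (orbPairs_map hdfix 29 (comm_powers pows_X.2 (hval hdX)))
    exact (eq_of_inv_mul this).symm

/-- An element numbered `i`. -/
noncomputable def gT (i : ℕ) : G28 := if i < 14 then gU ^ i else gU ^ (i - 14) * gW

theorem val_gT {i : ℕ} (hi : i < 28) : (gT i : Mat) = dec (elT i) := by
  unfold gT elT
  by_cases h : i < 14
  · rw [if_pos h, show Nat.blt i 14 = true from Nat.ble_eq_true_of_le h, cond_true, Units.val_pow_eq_pow_val, val_gU,
      pows_U.2 i h]
  · rw [if_neg h, show Nat.blt i 14 = false from Bool.eq_false_iff.2 fun hb => h (Nat.le_of_ble_eq_true hb),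
      cond_false, Units.val_mul, Units.val_pow_eq_pow_val, val_gU, val_gW, dec_mm,
      show Nat.sub i 14 = i - 14 from rfl, pows_U.2 (i - 14) (by omega)]

theorem gT_mem (i : ℕ) : gT i ∈ RG := by
  unfold gT
  split_ifs
  exacts [pow_mem gU_mem i, mul_mem (pow_mem gU_mem _) gW_mem]

theorem gT_comm (i : ℕ) : gT i * gU ^ 2 = gU ^ 2 * gT i := by
  unfold gT
  split_ifs
  · exact (pow_comm_sq gW_comm i).1
  · exact (pow_comm_sq gW_comm (i - 14)).2

/-- The centraliser of `gU ^ 2` consists of twenty-eight elements. -/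
theorem centralizer_gT {c : G28} (hc : c ∈ RG) (hT : c * gU ^ 2 = gU ^ 2 * c) : ∃ i < 28, c = gT i := by
  have hval : ∀ {c : G28}, c * gU ^ 2 = gU ^ 2 * c → (c : Mat) * dec (pwT 1) = dec (pwT 1) * (c : Mat) := fun h => by
    rw [zero_ok.2.2.2.1, pows_U.2 2 (by norm_num), ← val_gU, ← Units.val_pow_eq_pow_val, ← Units.val_mul, h,
      Units.val_mul]
  have hcomm := comm_powers pows_T.2 (hval hT)
  obtain ⟨a, ha, hpa⟩ := point_image hc zero_lt.2.1
  have hbit := selfMask_bit hc zero_lt.2.1 ha hpa 3 fun j hj => hcomm j (by omega)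
  rw [Nat.eq_of_beq_eq_true head_T] at hbit
  obtain ⟨⟨a', w, bs⟩, he, rfl⟩ := List.mem_map.1 (mem_of_testBit_listMask hbit)
  have hok := List.all_eq_true.1 ents_T _ he
  rw [entOKT] at hok
  simp only [Bool.and_eq_true, Bool.or_eq_true] at hok
  simp only at ha hpa
  obtain ⟨⟨⟨hw, hwp⟩, hprof⟩, hall⟩ := hok
  have hw' : w < 4060 := Nat.le_of_ble_eq_true hw
  obtain ⟨b, hb, hpb⟩ := point_image hc hw'
  have hb1 := profMask_bit hc hw' hb hpb _ (orbPairs_map hpa 7 fun j hj => hcomm j hj)
  rw [Nat.eq_of_beq_eq_true hprof] at hb1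
  obtain ⟨⟨b', w', i⟩, hbe, rfl⟩ := List.mem_map.1 (mem_of_testBit_listMask hb1)
  have hne : bs ≠ [] := fun e => by rw [e] at hbe; simp at hbe
  rcases hwp with hwp | hwp
  · exact absurd (List.isEmpty_iff.1 hwp) hne
  obtain rfl : w = CentData.oneT := Nat.eq_of_beq_eq_true hwp
  have hpair := List.all_eq_true.1 hall _ hbe
  rw [pairOK] at hpair
  simp only at hpair hb hpb
  have htwo : ∀ (d : G28), (d : Mat) * pvec CentData.zeroT = pvec a' → (d : Mat) * pvec CentData.oneT = pvec b' →
      (∀ j < 7, (d : Mat) * dec (pwT j) = dec (pwT j) * (d : Mat)) →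
      ∀ st ∈ twoPairs a' b', (d : Mat) * dec st.1 = dec st.2 := by
    intro d h1 h2 h3 st hst
    rcases List.mem_append.1 hst with h | h
    · exact orbPairs_map h1 7 h3 st h
    · exact orbPairs_map h2 7 h3 st h
  rcases hw0 : Nat.beq w' 4060 with _ | _ <;> rw [hw0] at hpair
  · exfalso
    rw [cond_false, Bool.and_eq_true] at hpair
    obtain ⟨j, hj, hij⟩ := point_image hc (Nat.le_of_ble_eq_true hpair.1)
    have := profMask_bit hc (Nat.le_of_ble_eq_true hpair.1) hj hij _ (htwo c hpa hpb hcomm)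
    rw [Nat.eq_of_beq_eq_true hpair.2, Nat.zero_testBit] at this
    exact Bool.false_ne_true this
  · rw [cond_true, Bool.and_eq_true, Bool.and_eq_true] at hpair
    have hi : i < 28 := Nat.le_of_ble_eq_true hpair.1.1
    refine ⟨i, hi, ?_⟩
    have h1 : (gT i : Mat) * pvec CentData.zeroT = pvec a' := by
      rw [val_gT hi]
      show dec (elT i) * dec (pimg CentData.zeroT) = dec (pimg a')
      rw [← dec_mm, Nat.eq_of_beq_eq_true hpair.1.2]
    have h2 : (gT i : Mat) * pvec CentData.oneT = pvec b' := by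
      rw [val_gT hi]
      show dec (elT i) * dec (pimg CentData.oneT) = dec (pimg b')
      rw [← dec_mm, Nat.eq_of_beq_eq_true hpair.2]
    set d := (gT i)⁻¹ * c with hd
    have hd1 : (d : Mat) * pvec CentData.zeroT = pvec CentData.zeroT := by
      rw [hd, Units.val_mul, mul_assoc, hpa, ← h1, Units.inv_mul_cancel_left]
    have hd2 : (d : Mat) * pvec CentData.oneT = pvec CentData.oneT := by
      rw [hd, Units.val_mul, mul_assoc, hpb, ← h2, Units.inv_mul_cancel_left]
    have hdT : d * gU ^ 2 = gU ^ 2 * d := comm_inv_mul (gT_comm i) hT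
    have hfix : ∀ st ∈ twoPairs CentData.zeroT CentData.oneT, (d : Mat) * dec st.1 = dec st.2 := by
      intro st hst
      rcases List.mem_append.1 hst with h | h
      · exact orbPairs_map hd1 7 (comm_powers pows_T.2 (hval hdT)) st h
      · exact orbPairs_map hd2 7 (comm_powers pows_T.2 (hval hdT)) st h
    have := span_one (mul_mem (inv_mem (gT_mem i)) hc) span_T inv_T hfix
    exact (eq_of_inv_mul this).symm

end CfsgLib.Sporadic.RuOut
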