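import Cfsg.Agent.Lib.Sporadic.RuOut.CentDefs

/-! Kernel checks for the two centralisers. -/

set_option autoImplicit false
set_option maxRecDepth 100000
set_option Elab.async false

namespace CfsgLib.Sporadic.RuOut

open RuMod
open CfsgLib.Sporadic

theorem head_X : headX = true := by decide +kernel

theorem head_T : headT = true := by decide +kernel

theorem ents_X : CentData.entsX.all entOKX = true := by decide +kernel

theorem span_X : spanOK CentData.spanX CentData.spanMatX (orbPairs pwX CentData.zeroX CentData.zeroX 29) = true := by
  decide +kernel

theorem span_T : spanOK CentData.spanT CentData.spanMatT (twoPairs CentData.zeroT CentData.oneT) = true := by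
  decide +kernel

theorem inv_X : Nat.beq (mm CentData.spanMatX CentData.spanInvX) one = true := by decide +kernel

theorem inv_T : Nat.beq (mm CentData.spanMatT CentData.spanInvT) one = true := by decide +kernel

theorem zero_lt : (CentData.zeroX < 4060 ∧ CentData.zeroT < 4060 ∧ CentData.oneT < 4060) := by decide +kernel

theorem ents_T0 : CentData.entsT0.all entOKT = true := by decide +kernel

theorem ents_T1 : CentData.entsT1.all entOKT = true := by decide +kernel

theorem ents_T2 : CentData.entsT2.all entOKT = true := by decide +kernel

theorem ents_T3 : CentData.entsT3.all entOKT = true := by decide +kernel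

theorem ents_T4 : CentData.entsT4.all entOKT = true := by decide +kernel

theorem ents_T5 : CentData.entsT5.all entOKT = true := by decide +kernel

theorem ents_T6 : CentData.entsT6.all entOKT = true := by decide +kernel

theorem ents_T7 : CentData.entsT7.all entOKT = true := by decide +kernel

theorem ents_T : CentData.entsT.all entOKT = true := by
  simp only [CentData.entsT, List.all_append, ents_T0, ents_T1, ents_T2, ents_T3, ents_T4, ents_T5, ents_T6, ents_T7, Bool.and_self]

end CfsgLib.Sporadic.RuOut
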