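import Cfsg.Agent.Lib.Sporadic.RuOut.Points
import Cfsg.Agent.Lib.Sporadic.RuOut.CentData
import Cfsg.Agent.Lib.Sporadic.RuLink.Slice

/-!
# Tests that bound two centralisers
-/

set_option autoImplicit false
set_option maxRecDepth 100000

namespace CfsgLib.Sporadic.RuOut

open RuMod Finset
open CfsgLib.Sporadic
open CfsgLib.Sporadic.RuLink (listMask bit0)

/-- The powers of the three chosen elements. -/
noncomputable def pwX (i : ℕ) : ℕ := CentData.powX.getD i 0
noncomputable def pwU (i : ℕ) : ℕ := CentData.powU.getD i 0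
noncomputable def pwT (i : ℕ) : ℕ := CentData.powT.getD i 0

/-- The orbit pairs from `p` to `q` under a table of powers. -/
noncomputable def orbPairs (pw : ℕ → ℕ) (p q : ℕ) (n : ℕ) : List (ℕ × ℕ) :=
  Nat.rec [] (fun j acc => (mm (pw j) (pimg p), mm (pw j) (pimg q)) :: acc) n

/-- The points with the products of `p` with its images. -/
noncomputable def selfMask (pw : ℕ → ℕ) (p n : ℕ) : ℕ :=
  Nat.rec fullMask (fun j acc => Nat.land acc
    (cond (bit0 (autoMask (pw (Nat.add j 1))) p) (autoMask (pw (Nat.add j 1)))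
      (Nat.xor (autoMask (pw (Nat.add j 1))) fullMask))) n

noncomputable def headX : Bool :=
  Nat.beq (selfMask pwX CentData.zeroX 14) (listMask (CentData.entsX.map Prod.fst))

noncomputable def headT : Bool :=
  Nat.beq (selfMask pwT CentData.zeroT 3) (listMask (CentData.entsT.map Prod.fst))

/-- One possible image under the centraliser of `X`. -/
noncomputable def entOKX (e : ℕ × ℕ × ℕ) : Bool :=
  cond (Nat.beq e.2.1 4060) (Nat.blt e.2.2 29 && Nat.beq (mm (pwX e.2.2) (pimg CentData.zeroX)) (pimg e.1))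
    (Nat.blt e.2.1 4060 && Nat.beq (profMask e.2.1 (orbPairs pwX CentData.zeroX e.1 29)) 0)

/-- The element numbered `i` of the centraliser of `T`. -/
noncomputable def elT (i : ℕ) : ℕ :=
  cond (Nat.blt i 14) (pwU i) (mm (pwU (Nat.sub i 14)) CentData.wMat)

/-- The pairs of the two orbits. -/
noncomputable def twoPairs (a b : ℕ) : List (ℕ × ℕ) :=
  orbPairs pwT CentData.zeroT a 7 ++ orbPairs pwT CentData.oneT b 7

/-- One possible pair of images under the centraliser of `T`. -/
noncomputable def pairOK (a : ℕ) (e : ℕ × ℕ × ℕ) : Bool :=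
  cond (Nat.beq e.2.1 4060) (Nat.blt e.2.2 28 && Nat.beq (mm (elT e.2.2) (pimg CentData.zeroT)) (pimg a) &&
      Nat.beq (mm (elT e.2.2) (pimg CentData.oneT)) (pimg e.1))
    (Nat.blt e.2.1 4060 && Nat.beq (profMask e.2.1 (twoPairs a e.1)) 0)

/-- One possible image under the centraliser of `T`. -/
noncomputable def entOKT (e : ℕ × ℕ × List (ℕ × ℕ × ℕ)) : Bool :=
  Nat.blt e.2.1 4060 && (e.2.2.isEmpty || Nat.beq e.2.1 CentData.oneT) &&
    Nat.beq (profMask e.2.1 (orbPairs pwT CentData.zeroT e.1 7)) (listMask (e.2.2.map Prod.fst)) &&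
      e.2.2.all (pairOK e.1)

/-- The spanning points are determined. -/
noncomputable def spanOK (S : List ℕ) (V : ℕ) (src : List (ℕ × ℕ)) : Bool :=
  forallLt 28 fun k => Nat.blt (S.getD k 0) 4060 &&
    Nat.beq (profMask (S.getD k 0) src) (Nat.shiftLeft 1 (S.getD k 0)) &&
      forallLt 28 fun r => Nat.beq (Nat.land (Nat.shiftRight V (Nat.add (Nat.mul 28 r) k)) 1)
        (Nat.land (Nat.shiftRight (pimg (S.getD k 0)) (Nat.mul 28 r)) 1)

end CfsgLib.Sporadic.RuOut
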