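import Mathlib

/-! Generated words for the outer automorphism group of the Rudvalis group. -/

set_option autoImplicit false

namespace CfsgLib.Sporadic.RuOut.RelData

/-- Words that are trivial; `a` stands for `X ^ a * W`. -/
def rels : List (List ℕ) := [[1, 1, 1, 1, 1, 1, 1, 1, 1, 1, 1, 1, 1, 1, 1, 1, 1, 1, 1, 1, 1, 1, 1, 1, 1, 1, 1, 1, 1], [2, 2, 2, 2, 2, 2, 2, 2, 2, 2, 2, 2, 2, 2, 2], [1, 4, 1, 4, 1, 4, 1, 4, 1, 4, 1, 4, 1, 4, 1, 4, 1, 4, 1, 4, 1, 4, 1, 4, 1, 4, 1, 4, 1, 4, 1, 4, 1, 4, 1, 4, 1, 4, 1, 4]]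

/-- The word refuting each candidate. -/
def tests : List (List ℕ) := [[1, 0, 0, 0, 0, 0, 0, 0, 0, 0, 0, 0, 0, 0, 0, 0, 0, 0, 0, 0, 0, 0, 0, 0, 0, 0, 0, 0], [1, 0, 0, 0, 0, 0, 0, 0, 0, 0, 0, 0, 0, 0, 0, 0, 0, 0, 0, 0, 1, 2, 1, 0, 0, 0, 0, 0]]

/-- The second generator as a word. -/
def genWord : List ℕ := [2, 2, 12, 5, 20, 6, 19, 25]

end CfsgLib.Sporadic.RuOut.RelData
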