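import Cfsg.Agent.Lib.Sporadic.RuOut.Cent
import Cfsg.Agent.Lib.Sporadic.RuOut.RelData
import Cfsg.Prelude.Def_KGroupFacts

/-!
# The Rudvalis group has no outer automorphisms

An automorphism is moved by an inner one to fix an element of order 29 up to squaring and a normalising
element; the image of an involution is then one of 28 elements, all but one refuted by short relations.
-/

set_option autoImplicit false
set_option maxRecDepth 100000
set_option maxHeartbeats 1000000

namespace CfsgLib.Sporadic.RuOut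

open Cfsg RuMod
open scoped Pointwise
open CfsgLib.Sporadic

/-- The code of a word in the syllables `X ^ (k * a) * C`. -/
noncomputable def wordCode (k C : ℕ) (w : List ℕ) : ℕ :=
  List.rec RuMod.one (fun a _ ih => mm (mm (pwX (Nat.mod (Nat.mul k a) 29)) C) ih) w

/-- The test of one candidate. -/
noncomputable def candOK (k i : ℕ) : Bool :=
  (Nat.beq k 1 && Nat.beq i 14) ||
    !Nat.beq (wordCode k (elT i) (RelData.rels.getD ((RelData.tests.getD (Nat.sub k 1) []).getD i 0) [])) RuMod.one

set_option Elab.async false in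
theorem cand_one : forallLt 28 (candOK 1) = true := by decide +kernel

theorem cand_two : forallLt 28 (candOK 2) = true := by decide +kernel

theorem rels_ok : (RelData.rels.all fun w => Nat.beq (wordCode 1 CentData.wMat w) RuMod.one) = true ∧
    wordCode 1 CentData.wMat RelData.genWord = Data.g0Gen.getD 1 0 ∧ elT 14 = mm RuMod.one CentData.wMat ∧
    RelData.rels.length = 3 ∧ Nat.beq (pwX 1) RuMod.one = false ∧ pwX 1 < 2 ^ 784 ∧
    (∀ t ∈ RelData.tests, ∀ j ∈ t, j < 3) := by
  decide +kernel

theorem wordCode_lt (k C : ℕ) : ∀ w, wordCode k C w < 2 ^ 784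
  | [] => one_lt
  | _ :: _ => mm_lt _ _

attribute [local irreducible] mm pimg dec cmask bmask autoMask profMask

theorem val_word (k : ℕ) {c : G28} {C : ℕ} (hc : (c : Mat) = dec C) : ∀ w : List ℕ,
    (((w.map fun a => gX ^ (k * a) * c).prod : G28) : Mat) = dec (wordCode k C w)
  | [] => by
    rw [List.map_nil, List.prod_nil, Units.val_one]
    exact dec_one.symm
  | a :: w => by
    rw [List.map_cons, List.prod_cons, Units.val_mul, val_word k hc w]
    show _ = dec (mm (mm (pwX ((k * a) % 29)) C) (wordCode k C w))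
    rw [dec_mm, dec_mm, pows_X.2 _ (Nat.mod_lt _ (by norm_num)), ← val_gX, ← hc, Units.val_mul,
      Units.val_pow_eq_pow_val, ← pow_eq_pow_mod (k * a) (show (gX : Mat) ^ 29 = 1 from pows_X.1)]

theorem finite_RG : Finite RG := Nat.finite_of_card_ne_zero (by rw [card_RG]; norm_num)

theorem word_moved {k i : ℕ} {c : G28} (hi : i < 28) (hc : c = gT i)
    {w : List ℕ} (h : Nat.beq (wordCode k (elT i) w) RuMod.one = false) :
    (w.map fun a => gX ^ (k * a) * c).prod ≠ 1 := by
  intro e
  have e' := congrArg Units.val e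
  rw [val_word k (C := elT i) (by rw [hc, val_gT hi]), Units.val_one, ← dec_one] at e'
  rw [dec_inj (wordCode_lt _ _ _) one_lt e'] at h
  simp at h

theorem rel_one {w : List ℕ} (hw : w ∈ RelData.rels) : (w.map fun a => gX ^ (1 * a) * gW).prod = 1 := by
  apply Units.ext
  rw [val_word 1 val_gW, Nat.eq_of_beq_eq_true (List.all_eq_true.1 rels_ok.1 w hw), dec_one, Units.val_one]

theorem gen_word : (((RelData.genWord.map fun a => gX ^ (1 * a) * gW).prod : G28) : Mat) =
    dec (Data.g0Gen.getD 1 0) := by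
  rw [val_word 1 val_gW, rels_ok.2.1]

theorem gX_ne : gX ≠ 1 := fun e => by
  have e' := congrArg Units.val e
  rw [val_gX, Units.val_one, ← dec_one] at e'
  have := rels_ok.2.2.2.2.1
  rw [dec_inj rels_ok.2.2.2.2.2.1 one_lt e'] at this
  simp at this

theorem orderOf_gX : orderOf gX = 29 :=
  haveI : Fact (Nat.Prime 29) := ⟨by norm_num⟩
  orderOf_eq_prime gX_pow gX_ne

/-- The chosen elements of the group. -/
noncomputable def eX : RG := ⟨gX, gX_mem⟩

noncomputable def eU : RG := ⟨gU, gU_mem⟩

noncomputable def eW : RG := ⟨gW, gW_mem⟩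

theorem orderOf_eX : orderOf eX = 29 := by rw [← Subgroup.orderOf_coe]; exact orderOf_gX

theorem eX_pow (n : ℕ) : eX ^ n = eX ^ (n % 29) := by rw [← pow_mod_orderOf, orderOf_eX]

theorem eU_conj : eU * eX * eU⁻¹ = eX ^ 4 := by
  rw [mul_inv_eq_iff_eq_mul]
  apply Subtype.ext
  rw [Subgroup.coe_mul, Subgroup.coe_mul, Subgroup.coe_pow]
  exact gU_conj

theorem eW_comm : eW * eU = eU * eW := Subtype.ext gW_comm

theorem centralizer_eX {c : RG} (h : c * eX = eX * c) : ∃ i < 29, c = eX ^ i := by
  have h' := congrArg Subtype.val h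
  rw [Subgroup.coe_mul, Subgroup.coe_mul] at h'
  obtain ⟨i, hi, e⟩ := centralizer_gX c.2 h'
  exact ⟨i, hi, Subtype.ext (by rw [Subgroup.coe_pow]; exact e)⟩

theorem centralizer_eT {c : RG} (h : c * eU ^ 2 = eU ^ 2 * c) : ∃ i < 28, (c : G28) = gT i := by
  have h' := congrArg Subtype.val h
  rw [Subgroup.coe_mul, Subgroup.coe_mul, Subgroup.coe_pow] at h'
  exact centralizer_gT c.2 h'

theorem eU_conj_pow (i e : ℕ) : eU ^ i * eX ^ e * (eU ^ i)⁻¹ = eX ^ (e * 4 ^ i) := by
  induction i generalizing e with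
  | zero => simp
  | succ i ih =>
    have h1 : eU * eX ^ e * eU⁻¹ = eX ^ (4 * e) := by rw [← conj_pow, eU_conj, ← pow_mul]
    calc eU ^ (i + 1) * eX ^ e * (eU ^ (i + 1))⁻¹ = eU ^ i * (eU * eX ^ e * eU⁻¹) * (eU ^ i)⁻¹ := by
          rw [pow_succ, _root_.mul_inv_rev]; simp only [mul_assoc]
      _ = eX ^ (e * 4 ^ (i + 1)) := by rw [h1, ih, pow_succ]; congr 1; ring

theorem pow_reps : ∀ k < 29, k ≠ 0 → ∃ i < 14, ∃ kk < 3, kk ≠ 0 ∧ k * 4 ^ i % 29 = kk := by decide +kernel

theorem inv_reps : ∀ kk < 3, kk ≠ 0 → ∃ j < 29, kk * j % 29 = 1 := by decide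

theorem shift_reps : ∀ i < 29, ∃ l < 29, (50 * l + i) % 29 = 0 := by decide +kernel

/-- Every element of order 29 is conjugate to a power of the chosen one. -/
theorem sylow_conj {y : RG} (hy : orderOf y = 29) :
    ∃ g : RG, ∃ k < 29, k ≠ 0 ∧ g * y * g⁻¹ = eX ^ k := by
  haveI := finite_RG
  haveI : Fact (Nat.Prime 29) := ⟨by norm_num⟩
  have small : ∀ z : RG, orderOf z = 29 → ∃ P : Sylow 29 RG, (P : Subgroup RG) = Subgroup.zpowers z := by
    intro z hz
    obtain ⟨P, hP⟩ := (IsPGroup.of_card (p := 29) (n := 1)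
      (by rw [Nat.card_zpowers, hz, pow_one]) : IsPGroup 29 (Subgroup.zpowers z)).exists_le_sylow
    refine ⟨P, (Subgroup.eq_of_le_of_card_ge hP ?_).symm⟩
    rw [Nat.card_zpowers, hz]
    obtain ⟨k, hk⟩ := P.isPGroup'.exists_card_eq
    have hd : 29 ^ k ∣ 145926144000 := card_RG ▸ hk ▸ Subgroup.card_subgroup_dvd_card (P : Subgroup RG)
    have : k < 2 := by
      by_contra hge
      exact absurd ((pow_dvd_pow 29 (Nat.not_lt.1 hge)).trans hd) (by norm_num)
    rw [hk]
    interval_cases k <;> norm_num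
  obtain ⟨P, hP⟩ := small eX orderOf_eX
  obtain ⟨Q, hQ⟩ := small y hy
  obtain ⟨g, hg⟩ := MulAction.exists_smul_eq RG Q P
  have hm : g * y * g⁻¹ ∈ Subgroup.zpowers eX := by
    rw [← hP, ← hg, Sylow.coe_subgroup_smul, hQ]
    exact Subgroup.smul_mem_pointwise_smul y (MulAut.conj g) _ (Subgroup.mem_zpowers y)
  rw [← (orderOf_pos_iff.1 (by rw [orderOf_eX]; norm_num)).mem_powers_iff_mem_zpowers,
    Submonoid.mem_powers_iff] at hm
  obtain ⟨k, hk⟩ := hm
  refine ⟨g, k % 29, Nat.mod_lt _ (by norm_num), fun h0 => ?_, by rw [← eX_pow]; exact hk.symm⟩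
  rw [eX_pow, h0, pow_zero] at hk
  have : y = 1 := by
    have := hk.symm
    rwa [conj_eq_one_iff] at this
  rw [this, orderOf_one] at hy
  omega

/-- A normalised automorphism is trivial. -/
theorem normalised (f : RG →* RG) {k : ℕ} (hk : k < 3) (hk0 : k ≠ 0) (hx : f eX = eX ^ k) (hu : f eU = eU) :
    f = MonoidHom.id RG := by
  have hWU : f eW * eU ^ 2 = eU ^ 2 * f eW := by
    have h2 : eW * eU ^ 2 = eU ^ 2 * eW := by rw [sq, ← mul_assoc, eW_comm, mul_assoc, eW_comm, ← mul_assoc]
    have h3 := congrArg f h2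
    rwa [map_mul, map_mul, map_pow, hu] at h3
  obtain ⟨i, hi, hc⟩ := centralizer_eT hWU
  have hok : candOK k i = true := by
    obtain rfl | rfl : k = 1 ∨ k = 2 := by omega
    exacts [forallLt_elim cand_one hi, forallLt_elim cand_two hi]
  rw [candOK, Bool.or_eq_true] at hok
  rcases hok with hok | hok
  · rw [Bool.and_eq_true, Nat.beq_eq, Nat.beq_eq] at hok
    obtain ⟨rfl, rfl⟩ := hok
    have hW : f eW = eW := Subtype.ext (hc.trans (Units.ext (by
      rw [val_gT (by norm_num), rels_ok.2.2.1, dec_mm, dec_one, Matrix.one_mul]; exact val_gW.symm)))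
    rw [pow_one] at hx
    refine MonoidHom.ext fun z => ?_
    have key : ∀ g ∈ RG, ∀ hg : g ∈ RG, (f ⟨g, hg⟩ : G28) = g := by
      intro g hg
      induction hg using Subgroup.closure_induction with
      | mem g hg =>
        intro hg'
        obtain ⟨j, hj, eg⟩ := hg
        rw [nextGens_g] at hj eg
        have hj2 : j < 2 := by simpa [Data.g0Gen] using hj
        interval_cases j
        · have e : (⟨g, hg'⟩ : RG) = eX := Subtype.ext (Units.ext (by
            rw [eg, ← zero_ok.2.2.2.2]; exact val_gX.symm))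
          rw [e, hx]
          exact (congrArg Subtype.val e).symm
        · let P : RG := (RelData.genWord.map fun a => eX ^ (1 * a) * eW).prod
          have eP : (P : G28) = g := Units.ext (by
            rw [eg, ← gen_word]
            show ((RG.subtype P : G28) : Mat) = _
            rw [map_list_prod, List.map_map]
            rfl)
          have e : (⟨g, hg'⟩ : RG) = P := Subtype.ext eP.symm
          have hP : f P = P := by
            show f _ = _
            rw [map_list_prod, List.map_map]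
            refine congrArg List.prod (List.map_congr_left fun a _ => ?_)
            rw [Function.comp_apply, map_mul, map_pow, hx, hW]
          rw [e, hP, eP]
      | one =>
        intro hg'
        rw [show (⟨1, hg'⟩ : RG) = 1 from rfl, map_one]
        rfl
      | mul a b ha hb iha ihb =>
        intro hg'
        rw [show (⟨a * b, hg'⟩ : RG) = ⟨a, ha⟩ * ⟨b, hb⟩ from rfl, map_mul, Subgroup.coe_mul, iha ha, ihb hb]
      | inv a ha iha =>
        intro hg'
        rw [show (⟨a⁻¹, hg'⟩ : RG) = ⟨a, ha⟩⁻¹ from rfl, map_inv, Subgroup.coe_inv, iha ha]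
    exact Subtype.ext (key z.1 z.2 z.2)
  · exfalso
    rw [Bool.not_eq_true'] at hok
    set j := (RelData.tests.getD (k - 1) []).getD i 0
    have hj : j < RelData.rels.length := by
      rw [rels_ok.2.2.2.1]
      have hlen : ∀ t ∈ RelData.tests, t.length = 28 := by decide +kernel
      have hm : RelData.tests.getD (k - 1) [] ∈ RelData.tests := by
        rw [List.getD_eq_getElem _ _ (show k - 1 < RelData.tests.length by simp [RelData.tests]; omega)]
        exact List.getElem_mem _
      refine rels_ok.2.2.2.2.2.2 _ hm _ ?_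
      show (RelData.tests.getD (k - 1) []).getD i 0 ∈ _
      rw [List.getD_eq_getElem _ _ (show i < (RelData.tests.getD (k - 1) []).length by rw [hlen _ hm]; exact hi)]
      exact List.getElem_mem _
    have hrel : RelData.rels.getD j [] ∈ RelData.rels := by
      rw [List.getD_eq_getElem _ _ hj]; exact List.getElem_mem _
    refine word_moved hi hc hok ?_
    have h1 : ((RelData.rels.getD j []).map fun a => eX ^ (1 * a) * eW).prod = 1 := by
      refine Subtype.ext ?_
      show RG.subtype _ = _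
      rw [map_list_prod, List.map_map]
      exact rel_one hrel
    have h2 := congrArg (fun z => RG.subtype (f z)) h1
    simp only [map_list_prod, List.map_map, map_one] at h2
    refine Eq.trans (congrArg List.prod (List.map_congr_left fun a _ => ?_)) h2
    rw [Function.comp_apply, Function.comp_apply, map_mul, map_pow, hx, ← pow_mul, Nat.one_mul, map_mul, map_pow]
    rfl

/-- Every automorphism is inner. -/
theorem aut_inner (α : MulAut RG) : (α : Cfsg.Out RG) = 1 := by
  have hsame : ∀ (g : RG) (β : MulAut RG), ((MulAut.conj g * β : MulAut RG) : Cfsg.Out RG) = β := by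
    intro g β
    rw [QuotientGroup.mk_mul, (QuotientGroup.eq_one_iff _).2 (MonoidHom.mem_range.2 ⟨g, rfl⟩), one_mul]
  obtain ⟨g, k, hk, hk0, hg⟩ := sylow_conj (y := α eX) (by rw [MulEquiv.orderOf_eq, orderOf_eX])
  obtain ⟨i, -, kk, hkk, hkk0, hpow⟩ := pow_reps k hk hk0
  set β : MulAut RG := MulAut.conj (eU ^ i * g) * α with hβ
  have hβX : β eX = eX ^ kk := by
    rw [hβ, MulAut.mul_apply, MulAut.conj_apply, _root_.mul_inv_rev,
      show eU ^ i * g * α eX * (g⁻¹ * (eU ^ i)⁻¹) = eU ^ i * (g * α eX * g⁻¹) * (eU ^ i)⁻¹ by group, hg,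
      eU_conj_pow, eX_pow, hpow]
  obtain ⟨j, -, hj⟩ := inv_reps kk hkk hkk0
  have hXj : (β eX) ^ j = eX := by rw [hβX, ← pow_mul, eX_pow, hj, pow_one]
  have hUX : β eU * eX * (β eU)⁻¹ = eX ^ 4 := by
    calc β eU * eX * (β eU)⁻¹ = β eU * (β eX) ^ j * (β eU)⁻¹ := by rw [hXj]
      _ = β ((eU * eX * eU⁻¹) ^ j) := by rw [conj_pow, map_mul, map_mul, map_inv, map_pow]
      _ = eX ^ 4 := by rw [eU_conj, ← pow_mul, mul_comm, pow_mul, map_pow, map_pow, hXj]
  obtain ⟨m, hm, hV⟩ := centralizer_eX (c := eU⁻¹ * β eU) (by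
    have e : eU⁻¹ * eX ^ 4 * eU = eX := by rw [← eU_conj]; group
    calc eU⁻¹ * β eU * eX = eU⁻¹ * (β eU * eX * (β eU)⁻¹) * β eU := by group
      _ = eU⁻¹ * eX ^ 4 * β eU := by rw [hUX]
      _ = eU⁻¹ * eX ^ 4 * eU * (eU⁻¹ * β eU) := by group
      _ = eX * (eU⁻¹ * β eU) := by rw [e])
  obtain ⟨l, -, hl⟩ := shift_reps m hm
  set γ : MulAut RG := MulAut.conj (eX ^ l) * β with hγ
  have hγX : γ eX = eX ^ kk := by
    rw [hγ, MulAut.mul_apply, MulAut.conj_apply, hβX, (Commute.pow_pow_self eX l kk).eq, mul_inv_cancel_right]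
  have hγU : γ eU = eU := by
    have hUm : β eU = eU * eX ^ m := by rw [← hV, mul_inv_cancel_left]
    have hi : (eX ^ l)⁻¹ = eX ^ (28 * l) := by
      refine inv_eq_of_mul_eq_one_right ?_
      rw [← pow_add, eX_pow, show (l + 28 * l) % 29 = 0 by omega, pow_zero]
    have hmove : eX ^ l * eU = eU * eX ^ (22 * l) := by
      have h1 : eU * eX ^ (22 * l) * eU⁻¹ = eX ^ l := by
        rw [← conj_pow, eU_conj, ← pow_mul, eX_pow, eX_pow l]
        congr 1
        omega
      conv_lhs => rw [← h1, inv_mul_cancel_right]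
    rw [hγ, MulAut.mul_apply, MulAut.conj_apply, hUm, ← mul_assoc, hmove, hi, mul_assoc, mul_assoc, ← pow_add,
      ← pow_add, eX_pow, show (22 * l + (m + 28 * l)) % 29 = 0 by omega, pow_zero, mul_one]
  have hclass : (α : Cfsg.Out RG) = (γ : Cfsg.Out RG) := by rw [hγ, hsame, hβ, hsame]
  rw [hclass, show γ = 1 from MulEquiv.ext fun z => DFunLike.congr_fun (normalised γ.toMonoidHom hkk hkk0 hγX hγU) z,
    QuotientGroup.mk_one]

/-- The outer automorphism group of the group in `GL(28,2)` is trivial. -/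
theorem card_out_RG : Nat.card (Cfsg.Out RG) = 1 := by
  haveI : Subsingleton (Cfsg.Out RG) := by
    refine ⟨fun a b => ?_⟩
    obtain ⟨α, rfl⟩ := QuotientGroup.mk_surjective a
    obtain ⟨β, rfl⟩ := QuotientGroup.mk_surjective b
    rw [aut_inner α, aut_inner β]
  exact Nat.card_unique

end CfsgLib.Sporadic.RuOut
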